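import Groth.Agent.Lib.AffPart15.Quot
import Groth.Agent.Lib.BorelFix21.Stabilizer
import Groth.Agent.Lib.GrpCM20.Basic

/-!
# The linear part of a subgroup stable under conjugation
-/

set_option autoImplicit false
set_option linter.style.haveILetI false
set_option backward.isDefEq.respectTransparency false
set_option backward.isDefEq.respectTransparency.types false
set_option maxHeartbeats 1000000
set_option maxSynthPendingDepth 3

universe u

open CategoryTheory CategoryTheory.Limits MonoidalCategory CartesianMonoidalCategory MonObj AlgebraicGeometry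

noncomputable section

namespace Groth.Agent.AffPart15

open AffPart25 Chevalley25 WeilRes21

variable {k : Type u} [Field k] [IsAlgClosed k]

/-- A surjective closed immersion preserves the dimension. -/
theorem dim_eq_of_surjective {X Y : Scheme.{u}} (f : X ⟶ Y) [IsClosedImmersion f] [Surjective f] :
    topologicalKrullDim X = topologicalKrullDim Y :=
  (f.isEmbedding.toHomeomorphOfSurjective f.surjective).isHomeomorph.topologicalKrullDim_eq

/-- An open subgroup has the dimension of the group. -/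
theorem dim_eq_of_openSubgroup {G G₀ : Over (Spec (CommRingCat.of k))} [GrpObj G] [GrpObj G₀]
    [LocallyOfFiniteType G.hom] (j : G₀ ⟶ G) [IsOpenImmersion j.left] :
    topologicalKrullDim G₀.left = topologicalKrullDim G.left := by
  let e : G₀.left := η[G₀].left (IsLocalRing.closedPoint k)
  rw [← GrpCM20.dim_opens G j.left.opensRange ⟨j.left e, e, rfl⟩]
  exact j.left.isOpenEmbedding.isEmbedding.toHomeomorph.isHomeomorph.topologicalKrullDim_eq

/-- A morphism from a connected space through the unit factors through an open and closed subgroup. -/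
theorem exists_lift_neutral {X H H₀ : Over (Spec (CommRingCat.of k))} [ConnectedSpace X.left] [GrpObj X] [GrpObj H]
    [GrpObj H₀] (j : H₀ ⟶ H) [IsMonHom j] [IsOpenImmersion j.left] [IsClosedImmersion j.left]
    (φ : X ⟶ H) [IsMonHom φ] : ∃ ψ : X ⟶ H₀, IsMonHom ψ ∧ ψ ≫ j = φ := by
  have hr : Set.range φ.left ⊆ Set.range j.left := by
    have hclopen : IsClopen (φ.left ⁻¹' Set.range j.left) :=
      ⟨j.left.isClosedEmbedding.isClosed_range.preimage φ.left.continuous,
        j.left.isOpenEmbedding.isOpen_range.preimage φ.left.continuous⟩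
    have hne : (φ.left ⁻¹' Set.range j.left).Nonempty := ⟨ptIm (1 : specOver k k ⟶ X),
      ptIm (1 : specOver k k ⟶ H₀), by rw [← ptIm_comp, ← ptIm_comp, MonObj.one_comp, MonObj.one_comp]⟩
    rintro _ ⟨x, rfl⟩
    exact (hclopen.eq_univ hne).ge (Set.mem_univ x)
  obtain ⟨ψ, hψ⟩ : ∃ ψ : X ⟶ H₀, ψ ≫ j = φ :=
    ⟨Over.homMk (IsOpenImmersion.lift j.left φ.left hr) (by
      rw [← Over.w j, IsOpenImmersion.lift_fac_assoc, Over.w φ]),
      Over.OverMorphism.ext (IsOpenImmersion.lift_fac _ _ _)⟩
  haveI : Mono j := Over.mono_of_mono_left j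
  refine ⟨ψ, TorsorSch25.isMonHom_of_points ψ fun T x y => ?_, hψ⟩
  rw [← cancel_mono j, MonObj.mul_comp (x ≫ ψ) (y ≫ ψ) j, Category.assoc, Category.assoc, Category.assoc, hψ]
  exact MonObj.mul_comp x y φ

/-- Factoring a homomorphism through a closed subgroup containing its image. -/
theorem isMonHom_of_comp {X Y Z : Over (Spec (CommRingCat.of k))} [GrpObj X] [GrpObj Y] [GrpObj Z]
    (ψ : X ⟶ Y) (j : Y ⟶ Z) [IsMonHom j] [IsClosedImmersion j.left] [IsMonHom (ψ ≫ j)] : IsMonHom ψ := by
  haveI : Mono j := Over.mono_of_mono_left j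
  refine TorsorSch25.isMonHom_of_points ψ fun T x y => ?_
  rw [← cancel_mono j, MonObj.mul_comp (x ≫ ψ) (y ≫ ψ) j, Category.assoc, Category.assoc, Category.assoc]
  exact MonObj.mul_comp x y (ψ ≫ j)

theorem linearPart_inter {G : Over (Spec (CommRingCat.of k))} [GrpObj G] [Smooth G.hom] [QuasiCompact G.hom]
    {K : Over (Spec (CommRingCat.of k))} [GrpObj K] [QuasiCompact K.hom] [LocallyOfFiniteType K.hom]
    (j : K ⟶ G) [IsMonHom j] [IsClosedImmersion j.left]
    (hK : ∀ (g : specOver k k ⟶ G) {H : Over (Spec (CommRingCat.of k))} [GrpObj H] [Smooth H.hom]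
      [ConnectedSpace H.left] [IsAffine H.left] (h : H ⟶ K) [IsMonHom h] [IsClosedImmersion h.left],
      ∃ h' : H ⟶ K, h' ≫ j = cst H g * (h ≫ j) * (cst H g)⁻¹)
    {N : Over (Spec (CommRingCat.of k))} [GrpObj N] (i : N ⟶ G) [IsMonHom i] [IsClosedImmersion i.left]
    [Smooth N.hom] [ConnectedSpace ↥N.left] [IsAffine N.left] (hN : AlgGrp.IsNormalHom i)
    (hNmax : ∀ (N' : Over (Spec (CommRingCat.of k))) [GrpObj N'] (i' : N' ⟶ G) [IsMonHom i'] [IsClosedImmersion i'.left]
      [Smooth N'.hom] [ConnectedSpace ↥N'.left] [IsAffine N'.left], AlgGrp.IsNormalHom i' → ∃ f : N' ⟶ N, f ≫ i = i')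
    {NK : Over (Spec (CommRingCat.of k))} [GrpObj NK] (iK : NK ⟶ K) [IsMonHom iK] [IsClosedImmersion iK.left]
    [Smooth NK.hom] [ConnectedSpace ↥NK.left] [IsAffine NK.left]
    (hNKmax : ∀ (N' : Over (Spec (CommRingCat.of k))) [GrpObj N'] (i' : N' ⟶ K) [IsMonHom i'] [IsClosedImmersion i'.left]
      [Smooth N'.hom] [ConnectedSpace ↥N'.left] [IsAffine N'.left], AlgGrp.IsNormalHom i' → ∃ f : N' ⟶ NK, f ≫ iK = i') :
    (∃ g : NK ⟶ N, g ≫ i = iK ≫ j) ∧
      topologicalKrullDim ↥NK.left = topologicalKrullDim ↥(pullback j.left i.left) := by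
  haveI : Mono i := Over.mono_of_mono_left i
  haveI : Mono j := Over.mono_of_mono_left j
  obtain ⟨A, _, q, hqm, -, -, -, hker, hAp, -⟩ := exists_proper_quotient G N i hN hNmax
  haveI := hqm; haveI := hAp
  have hcontain : ∀ {H : Over (Spec (CommRingCat.of k))} [GrpObj H] [Smooth H.hom] [ConnectedSpace H.left]
      [IsAffine H.left] (φ : H ⟶ G) [IsMonHom φ], ∃ f : H ⟶ N, f ≫ i = φ := fun {H} _ _ _ _ φ _ =>
    ⟨hker.lift φ (toUnit H) ((eq_one_of_affine (φ ≫ q)).trans Hom.one_def), hker.lift_fst _ _ _⟩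
  obtain ⟨g, hg⟩ := hcontain (iK ≫ j)
  refine ⟨⟨g, hg⟩, ?_⟩
  obtain ⟨P, _, p, r, hp, hrm, hpc, hsq, -, -⟩ := AffPart25.exists_preimage j i
  haveI := hp; haveI := hrm; haveI := hpc
  haveI : IsClosedImmersion r.left :=
    MorphismProperty.of_isPullback (P := @IsClosedImmersion) (hsq.map (Over.forget _)) ‹IsClosedImmersion j.left›
  haveI : IsAffine P.left := isAffine_of_isAffineHom r.left
  haveI : LocallyOfFiniteType P.hom := by rw [← Over.w p]; infer_instance
  have hdim : topologicalKrullDim ↥(pullback j.left i.left) = topologicalKrullDim P.left :=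
    (Scheme.homeoOfIso (hsq.map (Over.forget _)).isoPullback.symm).isHomeomorph.topologicalKrullDim_eq
  obtain ⟨H, _, s, hs, hsc, hss, hHr, hHs⟩ := BorelFix21.exists_reduced_subgroup P
  haveI := hs; haveI := hsc; haveI := hss; haveI := hHr; haveI := hHs
  haveI : IsAffine H.left := isAffine_of_isAffineHom s.left
  haveI : QuasiCompact H.hom := inferInstance
  obtain ⟨H₀, _, o, ho, hoo, hoc, hH₀s, hH₀q, hH₀c⟩ := exists_neutral (G := H)
  haveI := ho; haveI := hoo; haveI := hoc; haveI := hH₀s; haveI := hH₀q; haveI := hH₀c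
  haveI : IsAffine H₀.left := isAffine_of_isAffineHom o.left
  let h : H₀ ⟶ K := o ≫ s ≫ p
  haveI : IsClosedImmersion h.left := by simp only [h, Over.comp_left]; infer_instance
  haveI : IsClosedImmersion (h ≫ j).left := by rw [Over.comp_left]; infer_instance
  haveI : Mono h := Over.mono_of_mono_left h
  have hnormG : AlgGrp.IsNormalHom (h ≫ j) := by
    refine isNormalHom_of_rational (h ≫ j) fun c n => ?_
    let φ : H₀ ⟶ G := cst H₀ c * (h ≫ j) * (cst H₀ c)⁻¹
    have hφ : ∀ {T : Over (Spec (CommRingCat.of k))} (x : T ⟶ H₀), x ≫ φ = cst T c * (x ≫ h ≫ j) * (cst T c)⁻¹ :=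
      fun x => by simp only [φ, MonObj.comp_mul, GrpObj.comp_inv, comp_cst]
    haveI : IsMonHom φ := TorsorSch25.isMonHom_of_points φ fun T x y => by
      rw [hφ, hφ, hφ, MonObj.mul_comp]
      group
    obtain ⟨φK, hφK⟩ := hK c h
    obtain ⟨φN, hφN⟩ := hcontain φ
    let φP : H₀ ⟶ P := hsq.lift φK φN (hφK.trans hφN.symm)
    have hφP : φP ≫ p ≫ j = φ := by rw [← Category.assoc, hsq.lift_fst, hφK]
    haveI : IsClosedImmersion (p ≫ j).left := by rw [Over.comp_left]; infer_instance
    haveI : IsMonHom (φP ≫ p ≫ j) := by rw [hφP]; infer_instance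
    haveI : IsMonHom φP := isMonHom_of_comp φP (p ≫ j)
    haveI : IsReduced H₀.left := OrbitTop19.isReduced_of_smooth H₀.hom
    obtain ⟨l, hl⟩ := RedSepLib.exists_lift_of_range_subset φP.left s.left (by
      rw [s.left.surjective.range_eq]; exact Set.subset_univ _)
    let φH : H₀ ⟶ H := Over.homMk l (by rw [← Over.w s, reassoc_of% hl, Over.w φP])
    have hφH : φH ≫ s = φP := Over.OverMorphism.ext hl
    haveI : IsMonHom (φH ≫ s) := by rw [hφH]; infer_instance
    haveI : IsMonHom φH := isMonHom_of_comp φH s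
    obtain ⟨ψ, -, hψ⟩ := exists_lift_neutral o φH
    refine ⟨n ≫ ψ, ?_⟩
    have e : ψ ≫ o ≫ s ≫ p ≫ j = φ := by
      rw [reassoc_of% hψ, reassoc_of% hφH, hφP]
    simp only [h, Category.assoc]
    rw [e, hφ, cst_self]
    simp only [h, Category.assoc]
  have hnorm : AlgGrp.IsNormalHom h := fun T t n => by
    obtain ⟨m, hm⟩ := hnormG T (t ≫ j) n
    refine ⟨m, ?_⟩
    rw [← cancel_mono j, MonObj.mul_comp, MonObj.mul_comp, GrpObj.inv_comp]
    simp only [Category.assoc] at hm ⊢
    exact hm
  obtain ⟨f, hf⟩ := hNKmax H₀ h hnorm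
  haveI : IsClosedImmersion f.left := by
    haveI : IsClosedImmersion (f.left ≫ iK.left) := by rw [← Over.comp_left, hf]; infer_instance
    exact IsClosedImmersion.of_comp f.left iK.left
  refine le_antisymm ?_ ?_
  · rw [hdim]
    let e := hsq.lift iK g hg.symm
    haveI : IsClosedImmersion e.left := by
      haveI : IsClosedImmersion (e.left ≫ p.left) := by rw [← Over.comp_left, hsq.lift_fst]; infer_instance
      exact IsClosedImmersion.of_comp e.left p.left
    exact e.left.isClosedEmbedding.isInducing.topologicalKrullDim_le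
  · rw [hdim, ← dim_eq_of_surjective s.left, ← dim_eq_of_openSubgroup o]
    exact f.left.isClosedEmbedding.isInducing.topologicalKrullDim_le

end Groth.Agent.AffPart15

namespace Groth.Agent.AffPart15

open AffPart25 Chevalley25 WeilRes21

variable {k : Type u} [Field k]

/-- A conjugate of a closed immersion by a rational point is a closed immersion. -/
theorem isClosedImmersion_conj {G D : Over (Spec (CommRingCat.of k))} [GrpObj G] (j : D ⟶ G) [IsClosedImmersion j.left]
    (g : specOver k k ⟶ G) : IsClosedImmersion (cst D g * j * (cst D g)⁻¹).left := by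
  let c : G ≅ G :=
    { hom := cst G g * 𝟙 G * (cst G g)⁻¹
      inv := (cst G g)⁻¹ * 𝟙 G * cst G g
      hom_inv_id := by
        simp only [MonObj.comp_mul, GrpObj.comp_inv, comp_cst, Category.comp_id]
        group
      inv_hom_id := by
        simp only [MonObj.comp_mul, GrpObj.comp_inv, comp_cst, Category.comp_id]
        group }
  have : cst D g * j * (cst D g)⁻¹ = j ≫ c.hom := by
    simp only [c, MonObj.comp_mul, GrpObj.comp_inv, comp_cst, Category.comp_id]
  rw [this, Over.comp_left]
  haveI : IsIso c.hom.left := ((Over.forget _).mapIso c).isIso_hom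
  infer_instance

end Groth.Agent.AffPart15
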