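import Groth.Agent.Lib.AffPart25.Theorem
import Groth.Agent.Lib.AffPart25.Albanese
import Groth.Agent.Lib.Chevalley25.Component
import Groth.Agent.Lib.CharTorus15.Basic

/-!
# Linear parts of groups which need not be connected
-/

set_option autoImplicit false
set_option linter.style.haveILetI false
set_option backward.isDefEq.respectTransparency false
set_option backward.isDefEq.respectTransparency.types false
set_option maxHeartbeats 1000000
set_option maxSynthPendingDepth 3

universe u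

open CategoryTheory CategoryTheory.Limits MonoidalCategory CartesianMonoidalCategory MonObj AlgebraicGeometry

noncomputable section

namespace Groth.Agent.AffPart15

open AffPart25 Chevalley25 WeilRes21

variable {k : Type u} [Field k] [IsAlgClosed k]

/-- Being stable under conjugation can be checked on rational points. -/
theorem isNormalHom_of_rational {G N : Over (Spec (CommRingCat.of k))} [GrpObj G] [GrpObj N] [Smooth G.hom]
    [Smooth N.hom] (i : N ⟶ G) [IsClosedImmersion i.left]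
    (h : ∀ (g : specOver k k ⟶ G) (n : specOver k k ⟶ N),
      ∃ m : specOver k k ⟶ N, g * (n ≫ i) * g⁻¹ = m ≫ i) :
    AlgGrp.IsNormalHom i := by
  haveI : Smooth (G ⊗ N).hom := by
    show Smooth (pullback.fst G.hom N.hom ≫ G.hom)
    infer_instance
  haveI : IsReduced (G ⊗ N).left := OrbitTop19.isReduced_of_smooth (G ⊗ N).hom
  haveI : LocallyOfFiniteType (G ⊗ N).hom := inferInstance
  haveI : JacobsonSpace (G ⊗ N).left :=
    LocallyOfFiniteType.jacobsonSpace (Y := Spec (CommRingCat.of k)) (G ⊗ N).hom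
  let c : G ⊗ N ⟶ G := fst G N * (snd G N ≫ i) * (fst G N)⁻¹
  have hsub : Set.range c.left ⊆ Set.range i.left := by
    have hcl : IsClosed (c.left ⁻¹' Set.range i.left) :=
      i.left.isClosedEmbedding.isClosed_range.preimage c.left.continuous
    have hpts : closedPoints (G ⊗ N).left ⊆ c.left ⁻¹' Set.range i.left := by
      intro x hx
      obtain ⟨z, rfl⟩ := exists_ptIm (mem_closedPoints_iff.1 hx)
      obtain ⟨m, hm⟩ := h (z ≫ fst G N) (z ≫ snd G N)
      refine ⟨ptIm m, ?_⟩
      rw [← ptIm_comp, ← ptIm_comp, ← hm]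
      simp only [c, MonObj.comp_mul, GrpObj.comp_inv, Category.assoc]
    have := closure_minimal hpts hcl
    rw [closure_closedPoints] at this
    rintro _ ⟨z, rfl⟩
    exact this (Set.mem_univ z)
  obtain ⟨l, hl⟩ := RedSepLib.exists_lift_of_range_subset c.left i.left hsub
  let l' : G ⊗ N ⟶ N := Over.homMk l (by rw [← Over.w i, reassoc_of% hl, Over.w c])
  have hl' : l' ≫ i = c := Over.OverMorphism.ext hl
  intro T t n
  refine ⟨lift t n ≫ l', ?_⟩
  rw [Category.assoc, hl']
  simp only [c, MonObj.comp_mul, GrpObj.comp_inv, lift_fst, lift_snd_assoc]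

/-- The linear part of an open connected subgroup is normal in the whole group. -/
theorem isNormalHom_neutral {G G₀ N : Over (Spec (CommRingCat.of k))} [GrpObj G] [GrpObj G₀] [GrpObj N]
    [Smooth G.hom] (j : G₀ ⟶ G) [IsMonHom j] [IsOpenImmersion j.left] [IsClosedImmersion j.left]
    [Smooth G₀.hom] [QuasiCompact G₀.hom] [ConnectedSpace G₀.left]
    (i : N ⟶ G₀) [IsMonHom i] [IsClosedImmersion i.left] [Smooth N.hom] [ConnectedSpace N.left] [IsAffine N.left]
    (hN : AlgGrp.IsNormalHom i)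
    (hmax : ∀ (N' : Over (Spec (CommRingCat.of k))) [GrpObj N'] (i' : N' ⟶ G₀) [IsMonHom i'] [IsClosedImmersion i'.left]
      [Smooth N'.hom] [ConnectedSpace ↥N'.left] [IsAffine N'.left], AlgGrp.IsNormalHom i' → ∃ f : N' ⟶ N, f ≫ i = i') :
    AlgGrp.IsNormalHom (i ≫ j) := by
  haveI : IsClosedImmersion (i ≫ j).left := by rw [Over.comp_left]; infer_instance
  refine isNormalHom_of_rational (i ≫ j) fun g n => ?_
  let φ : N ⟶ G := cst N g * (i ≫ j) * (cst N g)⁻¹
  have hφ : ∀ {T : Over (Spec (CommRingCat.of k))} (x : T ⟶ N), x ≫ φ = cst T g * (x ≫ i ≫ j) * (cst T g)⁻¹ :=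
    fun x => by simp only [φ, MonObj.comp_mul, GrpObj.comp_inv, comp_cst]
  haveI : IsMonHom φ := TorsorSch25.isMonHom_of_points φ fun T x y => by
    rw [hφ, hφ, hφ, MonObj.mul_comp]
    group
  have hone : (1 : specOver k k ⟶ N) ≫ φ = 1 := MonObj.one_comp _
  have hr : Set.range φ.left ⊆ Set.range j.left := by
    have hclopen : IsClopen (φ.left ⁻¹' Set.range j.left) :=
      ⟨j.left.isClosedEmbedding.isClosed_range.preimage φ.left.continuous,
        j.left.isOpenEmbedding.isOpen_range.preimage φ.left.continuous⟩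
    have hne : (φ.left ⁻¹' Set.range j.left).Nonempty := ⟨ptIm (1 : specOver k k ⟶ N),
      ptIm (1 : specOver k k ⟶ G₀), by rw [← ptIm_comp, ← ptIm_comp, hone, MonObj.one_comp]⟩
    rintro _ ⟨x, rfl⟩
    exact (hclopen.eq_univ hne).ge (Set.mem_univ x)
  obtain ⟨ψ, hψ⟩ : ∃ ψ : N ⟶ G₀, ψ ≫ j = φ :=
    ⟨Over.homMk (IsOpenImmersion.lift j.left φ.left hr) (by
      rw [← Over.w j, IsOpenImmersion.lift_fac_assoc, Over.w φ]),
      Over.OverMorphism.ext (IsOpenImmersion.lift_fac _ _ _)⟩
  haveI : Mono j := Over.mono_of_mono_left j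
  have hψm : IsMonHom ψ := TorsorSch25.isMonHom_of_points ψ fun T x y => by
    rw [← cancel_mono j, MonObj.mul_comp (x ≫ ψ) (y ≫ ψ) j, Category.assoc, Category.assoc, Category.assoc, hψ]
    exact MonObj.mul_comp x y φ
  obtain ⟨f, hf⟩ := @exists_factor_affine k _ _ G₀ _ _ _ _ N _ i _ _ _ _ _ hN hmax N _ _ _ _ ψ hψm
  refine ⟨n ≫ f, ?_⟩
  have := congrArg (n ≫ · ≫ j) hf
  simp only [Category.assoc] at this
  rw [Category.assoc, this, hψ, hφ, cst_self]

/-- The quotient of a group by its linear part is proper. -/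
theorem exists_proper_quotient (G : Over (Spec (CommRingCat.of k))) [GrpObj G] [Smooth G.hom] [QuasiCompact G.hom]
    (N : Over (Spec (CommRingCat.of k))) [GrpObj N] (i : N ⟶ G) [IsMonHom i]
    [IsClosedImmersion i.left] [Smooth N.hom] [ConnectedSpace N.left] [IsAffine N.left] (hN : AlgGrp.IsNormalHom i)
    (hmax : ∀ (N' : Over (Spec (CommRingCat.of k))) [GrpObj N'] (i' : N' ⟶ G) [IsMonHom i'] [IsClosedImmersion i'.left]
      [Smooth N'.hom] [ConnectedSpace ↥N'.left] [IsAffine N'.left], AlgGrp.IsNormalHom i' → ∃ f : N' ⟶ N, f ≫ i = i') :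
    ∃ (A : Over (Spec (CommRingCat.of k))) (_ : GrpObj A) (q : G ⟶ A), IsMonHom q ∧ Flat q.left ∧ Surjective q.left ∧
      QuasiCompact q.left ∧ AlgGrp.IsKernel i q ∧ IsProper A.hom ∧ Smooth A.hom := by
  obtain ⟨A, _, q, hqm, hqf, hqs, hqq, hker, hAs, hAq⟩ := AffPart25.exists_quotient i hN
  haveI := hqm; haveI := hqf; haveI := hqs; haveI := hAs; haveI := hAq
  refine ⟨A, inferInstance, q, hqm, hqf, hqs, hqq, hker, ?_, hAs⟩
  obtain ⟨A₀, _, j, hj, hjo, hjc, hA₀s, hA₀q, hA₀c⟩ := exists_neutral (G := A)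
  haveI := hj; haveI := hjo; haveI := hjc; haveI := hA₀s; haveI := hA₀q; haveI := hA₀c
  obtain ⟨M, _, m, ⟨hm, hmc, hMs, hMc, hMa, hMn⟩, hMmax⟩ := AffPart25.exists_largest A₀
  haveI := hm; haveI := hmc; haveI := hMs; haveI := hMc; haveI := hMa
  haveI : IsClosedImmersion (m ≫ j).left := by rw [Over.comp_left]; infer_instance
  haveI := isIso_hom_of_quotient i hmax q hker (m ≫ j) (isNormalHom_neutral j m hMn hMmax)
  have hsub : ∀ (N' : Over (Spec (CommRingCat.of k))) [GrpObj N'] (i' : N' ⟶ A₀) [IsMonHom i']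
      [IsClosedImmersion i'.left] [Smooth N'.hom] [ConnectedSpace ↥N'.left] [IsAffine N'.left],
      AlgGrp.IsNormalHom i' → IsIso N'.hom ∧ True := by
    intro N' _ i' _ _ _ _ _ hn
    obtain ⟨f, hf⟩ := hMmax N' i' hn
    haveI : Mono i' := Over.mono_of_mono_left i'
    haveI : IsSeparated A₀.hom := AbRigid.isSeparated_of_grpObj A₀
    have he : f ≫ toUnit M ≫ η[M] = f := by
      have : toUnit M ≫ η[M] = 𝟙 M := Over.OverMorphism.ext (by
        rw [← cancel_mono M.hom, Over.w, Over.w])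
      rw [this, Category.comp_id]
    have h1 : toUnit N' ≫ η[N'] = 𝟙 N' := by
      rw [← cancel_mono i', Category.id_comp, Category.assoc, IsMonHom.one_hom i']
      rw [← hf, ← he, Category.assoc, Category.assoc, IsMonHom.one_hom m, ← Category.assoc, comp_toUnit]
    refine ⟨⟨η[N'].left, by simpa using congrArg (·.left) h1, Over.w η[N']⟩, trivial⟩
  obtain ⟨d, hd⟩ := exists_dim A₀
  haveI := (isProper_of_forall_trivial d A₀ hd.le hsub).1
  exact isProper_of_openSubgroup (G := A) j

/-- A surjective homomorphism maps the linear part onto the linear part. -/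
theorem exists_surjective_linearPart {G Q : Over (Spec (CommRingCat.of k))} [GrpObj G] [GrpObj Q]
    [Smooth G.hom] [QuasiCompact G.hom] [QuasiCompact Q.hom] [LocallyOfFiniteType Q.hom]
    (π : G ⟶ Q) [IsMonHom π] [Surjective π.left] [Smooth Q.hom]
    {NG : Over (Spec (CommRingCat.of k))} [GrpObj NG] (iG : NG ⟶ G) [IsMonHom iG] [IsClosedImmersion iG.left]
    [Smooth NG.hom] [ConnectedSpace ↥NG.left] [IsAffine NG.left] (hNG : AlgGrp.IsNormalHom iG)
    (hNGmax : ∀ (N' : Over (Spec (CommRingCat.of k))) [GrpObj N'] (i' : N' ⟶ G) [IsMonHom i'] [IsClosedImmersion i'.left]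
      [Smooth N'.hom] [ConnectedSpace ↥N'.left] [IsAffine N'.left], AlgGrp.IsNormalHom i' → ∃ f : N' ⟶ NG, f ≫ iG = i')
    {NQ : Over (Spec (CommRingCat.of k))} [GrpObj NQ] (iQ : NQ ⟶ Q) [IsMonHom iQ] [IsClosedImmersion iQ.left]
    [Smooth NQ.hom] [ConnectedSpace ↥NQ.left] [IsAffine NQ.left]
    (hNQmax : ∀ (N' : Over (Spec (CommRingCat.of k))) [GrpObj N'] (i' : N' ⟶ Q) [IsMonHom i'] [IsClosedImmersion i'.left]
      [Smooth N'.hom] [ConnectedSpace ↥N'.left] [IsAffine N'.left], AlgGrp.IsNormalHom i' → ∃ f : N' ⟶ NQ, f ≫ iQ = i') :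
    ∃ f : NG ⟶ NQ, f ≫ iQ = iG ≫ π ∧ Surjective f.left := by
  obtain ⟨H, _, j, g, hj, hjc, hgm, hgf, hgs, hgj, hHs, hHc, hHa⟩ := AffPart25.exists_affine_image (iG ≫ π)
  haveI := hj; haveI := hjc; haveI := hgm; haveI := hgs; haveI := hHs; haveI := hHc; haveI := hHa
  have hjn : AlgGrp.IsNormalHom j := isNormalHom_image π iG hNG j g hgj
  obtain ⟨l, hl⟩ := hNQmax H j hjn
  refine ⟨g ≫ l, by rw [Category.assoc, hl, hgj], ?_⟩
  -- the quotient of `Q` by the image is proper
  obtain ⟨B, _, p, hpm, hpf, hps, hpq, hpker, hBs, hBq⟩ := AffPart25.exists_quotient j hjn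
  haveI := hpm; haveI := hpf; haveI := hps; haveI := hpq; haveI := hBs; haveI := hBq
  obtain ⟨A, _, q, hqm, hqf, hqs, hqq, hker, hAp, hAs⟩ := exists_proper_quotient G NG iG hNG hNGmax
  haveI := hqm; haveI := hqf; haveI := hqs; haveI := hqq; haveI := hAp
  obtain ⟨r, hrm, hr⟩ := CharTorus15.desc_hom iG q hker (π ≫ p) (by
    rw [← Category.assoc, ← hgj, Category.assoc, hpker.w, ← Category.assoc, comp_toUnit, ← Hom.one_def])
  haveI : Surjective r.left := by
    haveI : Surjective (q ≫ r).left := by rw [hr, Over.comp_left]; infer_instance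
    rw [Over.comp_left] at this
    exact Surjective.of_comp q.left r.left
  haveI : IsSeparated B.hom := AbRigid.isSeparated_of_grpObj B
  haveI : UniversallyClosed B.hom := by
    haveI : UniversallyClosed (r.left ≫ B.hom) := by rw [Over.w]; infer_instance
    exact UniversallyClosed.of_comp_surjective r.left B.hom
  haveI : IsProper B.hom := ⟨⟩
  have h1 : iQ ≫ p = toUnit NQ ≫ η[B] := (eq_one_of_affine (iQ ≫ p)).trans Hom.one_def
  haveI : Mono iQ := Over.mono_of_mono_left iQ
  let s : NQ ⟶ H := hpker.lift iQ (toUnit NQ) h1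
  have hs : s ≫ l = 𝟙 NQ := by
    rw [← cancel_mono iQ, Category.assoc, hl, Category.id_comp]
    exact hpker.lift_fst _ _ _
  haveI : Surjective l.left := ⟨fun x => ⟨s.left x, by
    rw [← Scheme.Hom.comp_apply, ← Over.comp_left, hs]; rfl⟩⟩
  rw [Over.comp_left]
  infer_instance

end Groth.Agent.AffPart15
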